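import Groth.Agent.QuietLib.Swap
import Groth.Prelude.Def_Frob

/-!
# Quasi-etale morphisms in local coordinates
-/

set_option autoImplicit false
set_option backward.isDefEq.respectTransparency false

universe u

open CategoryTheory CategoryTheory.Limits AlgebraicGeometry TopologicalSpace

noncomputable section

namespace Groth.Agent.QuietLib

/-- Local coordinates of a quasi-etale morphism. -/
def QAt (p : ℕ) {X Y : Scheme.{u}} (f : Y ⟶ X) (y : Y) : Prop :=
  ∃ (R S : CommRingCat.{u}) (φ : R ⟶ S) (a : Spec R ⟶ X) (b : Spec S ⟶ Y),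
    Tow p φ ∧ Etale a ∧ IsOpenImmersion b ∧ y ∈ Set.range b ∧ b ≫ f = Spec.map φ ≫ a

lemma charP_of_hom (p : ℕ) {X : Scheme.{u}} [FrobSch.IsCharP X p] {R : CommRingCat.{u}}
    (a : Spec R ⟶ X) : (p : R) = 0 := by
  rw [← map_natCast ((Scheme.ΓSpecIso R).hom.hom.comp a.appTop.hom),
    FrobSch.IsCharP.natCast_eq_zero, map_zero]

lemma qat_of_isQuiet {p : ℕ} {X Y : Scheme.{u}} {f : Y ⟶ X} (h : Quiet.IsQuiet p f) (y : Y) :
    QAt p f y := by
  obtain ⟨V, Y', r, e, hy, hr, he, fac⟩ := h y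
  obtain ⟨⟨U, hU⟩, hwU, hV, n, hn⟩ := hr (r ⟨y, hy⟩)
  refine ⟨_, _, r.app U, hU.fromSpec ≫ e, hV.fromSpec ≫ V.ι, tow_of_isRootTower n _ _ _ hn,
    inferInstance, inferInstance, ?_, ?_⟩
  · refine ⟨hV.primeIdealOf ⟨⟨y, hy⟩, hwU⟩, ?_⟩
    rw [Scheme.Hom.comp_apply, hV.fromSpec_primeIdealOf]
    rfl
  · rw [Category.assoc, ← fac]
    rw [Scheme.Hom.app_eq_appLE]
    rw [← Category.assoc (Spec.map _), IsAffineOpen.SpecMap_appLE_fromSpec r hU hV le_rfl]
    rw [Category.assoc]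

lemma isQuiet_of_qat {p : ℕ} {X Y : Scheme.{u}} {f : Y ⟶ X} (h : ∀ y, QAt p f y) :
    Quiet.IsQuiet p f := by
  intro y
  obtain ⟨R, S, φ, a, b, hφ, ha, hb, hy, fac⟩ := h y
  refine ⟨b.opensRange, Spec R, b.isoOpensRange.inv ≫ Spec.map φ, a, hy, fun x => ?_, ha, ?_⟩
  · refine ⟨⟨⊤, isAffineOpen_top _⟩, trivial, ?_, ?_⟩
    · haveI : IsAffine (b.opensRange : Scheme.{u}) := .of_isIso b.isoOpensRange.inv
      exact isAffineOpen_top _
    · refine isRootTower_of_tow ?_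
      show Tow p (b.isoOpensRange.inv ≫ Spec.map φ).appTop
      rw [Scheme.Hom.comp_appTop]
      refine tow_comp ?_ (Tow.iso _ inferInstance)
      have e : (Spec.map φ).appTop =
          (Scheme.ΓSpecIso R).hom ≫ φ ≫ (Scheme.ΓSpecIso S).inv := by
        rw [← Scheme.ΓSpecIso_naturality_assoc, Iso.hom_inv_id, Category.comp_id]
      rw [e]
      exact tow_iso_comp _ (tow_comp hφ (Tow.iso _ inferInstance))
  · rw [Category.assoc, ← fac, ← Category.assoc, Scheme.Hom.isoOpensRange_inv_comp]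

/-- Towers restrict along open affines of the base. -/
lemma exists_restrict {p : ℕ} {R S : CommRingCat.{u}} {φ : R ⟶ S} (hφ : Tow p φ) (z : Spec S)
    {R' : CommRingCat.{u}} (χ : R ⟶ R') [IsOpenImmersion (Spec.map χ)]
    (hz : Spec.map φ z ∈ Set.range (Spec.map χ)) :
    ∃ (S' : CommRingCat.{u}) (φ' : R' ⟶ S') (β : Spec S' ⟶ Spec S),
      Tow p φ' ∧ IsOpenImmersion β ∧ z ∈ Set.range β ∧
        IsPullback β (Spec.map φ') (Spec.map φ) (Spec.map χ) := by
  have P : IsPushout φ χ (pushout.inl φ χ) (pushout.inr φ χ) := IsPushout.of_hasPushout φ χ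
  have H : IsPullback (Spec.map (pushout.inl φ χ)) (Spec.map (pushout.inr φ χ)) (Spec.map φ)
      (Spec.map χ) := isPullback_SpecMap_of_isPushout _ _ _ _ P
  refine ⟨_, pushout.inr φ χ, Spec.map (pushout.inl φ χ), tow_of_isPushout hφ χ _ _ P.flip, ?_, ?_, H⟩
  · exact MorphismProperty.of_isPullback (P := @IsOpenImmersion) H.flip inferInstance
  · obtain ⟨t, ht⟩ := hz
    obtain ⟨w, hw, -⟩ := Scheme.Pullback.exists_preimage_pullback (f := Spec.map φ)
      (g := Spec.map χ) z t ht.symm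
    exact ⟨H.isoPullback.inv w, by rw [← Scheme.Hom.comp_apply, H.isoPullback_inv_fst, hw]⟩

/-- Shrink the base of local coordinates into an open. -/
lemma exists_shrink {p : ℕ} {R S : CommRingCat.{u}} {φ : R ⟶ S} (hφ : Tow p φ) (z : Spec S)
    (W : (Spec R).Opens) (hz : Spec.map φ z ∈ W) :
    ∃ (R' S' : CommRingCat.{u}) (χ : R ⟶ R') (φ' : R' ⟶ S') (β : Spec S' ⟶ Spec S),
      Tow p φ' ∧ IsOpenImmersion (Spec.map χ) ∧ IsOpenImmersion β ∧ z ∈ Set.range β ∧
        Set.range (Spec.map χ) ⊆ W ∧ β ≫ Spec.map φ = Spec.map φ' ≫ Spec.map χ := by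
  obtain ⟨_, ⟨_, ⟨c, rfl⟩, rfl⟩, hc, hcW⟩ :=
    PrimeSpectrum.isBasis_basic_opens.exists_subset_of_mem_open hz W.isOpen
  let χ : R ⟶ CommRingCat.of (Localization.Away c) := CommRingCat.ofHom (algebraMap R _)
  haveI : IsOpenImmersion (Spec.map χ) := IsOpenImmersion.of_isLocalization c
  have hr : Set.range (Spec.map χ) = (PrimeSpectrum.basicOpen c : Set (PrimeSpectrum R)) :=
    PrimeSpectrum.localization_away_comap_range _ c
  obtain ⟨S', φ', β, h1, h2, h3, h4⟩ := exists_restrict hφ z χ (hr ▸ hc)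
  exact ⟨_, S', χ, φ', β, h1, inferInstance, h2, h3, hr ▸ hcW, h4.w⟩

end Groth.Agent.QuietLib
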