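import Groth.Agent.QuietLib.Tower
import Groth.Agent.InfLift.EtaleExt

/-!
# Moving etale algebras down root towers
-/

set_option autoImplicit false
set_option backward.isDefEq.respectTransparency false

universe u

open CategoryTheory CategoryTheory.Limits TensorProduct FrobAlg

noncomputable section

namespace Groth.Agent.QuietLib

/-- The square of a single Frobenius on an etale algebra is cocartesian. -/
lemma isPushout_frob_one (p : ℕ) [Fact p.Prime] {B C : CommRingCat.{u}} (h : B ⟶ C) (he : h.hom.Etale)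
    (F : B ⟶ B) (hF : ∀ b, F b = b ^ p) (G : C ⟶ C) (hG : ∀ c, G c = c ^ p)
    (hB : (p : B) = 0) : IsPushout h F G h := by
  have w : CommSq h F G h := ⟨by ext b; simp [hF, hG]⟩
  rcases subsingleton_or_nontrivial C with hC | hC
  · refine ⟨w, ⟨PushoutCocone.IsColimit.mk _ (fun s => s.inl) (fun s => ?_) (fun s => ?_)
      (fun s m hm1 hm2 => ?_)⟩⟩
    · haveI : Subsingleton s.pt := s.inl.hom.codomain_trivial
      exact CommRingCat.hom_ext (RingHom.ext fun _ => Subsingleton.elim _ _)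
    · haveI : Subsingleton s.pt := s.inl.hom.codomain_trivial
      exact CommRingCat.hom_ext (RingHom.ext fun _ => Subsingleton.elim _ _)
    · haveI : Subsingleton s.pt := s.inl.hom.codomain_trivial
      exact CommRingCat.hom_ext (RingHom.ext fun _ => Subsingleton.elim _ _)
  haveI : Nontrivial B := h.hom.domain_nontrivial
  haveI : CharP B p := (CharP.charP_iff_prime_eq_zero Fact.out).mpr hB
  haveI : CharP C p := (CharP.charP_iff_prime_eq_zero Fact.out).mpr
    (by rw [← map_natCast h.hom, hB, map_zero])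
  algebraize [h.hom]
  haveI : Algebra.Etale B C := RingHom.etale_algebraMap.1 (by rwa [RingHom.algebraMap_toAlgebra])
  refine (CommRingCat.isPushout_tensorProduct B C (Twist p B)).of_iso (Iso.refl _) (Iso.refl _)
    (toTwist p B).symm.toCommRingCatIso
    (RingEquiv.ofBijective _ (RelFrobEt.bijective_of_etale (p := p) (A := B) (B := C))).toCommRingCatIso
    ?_ ?_ ?_ ?_
  · ext b
    rfl
  · ext b
    show (toTwist p B).symm (algebraMap B (Twist p B) b) = F b
    rw [algebraMap_twist, RingEquiv.symm_apply_apply, hF]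
  · ext c
    show relFrob p B C (c ⊗ₜ (1 : Twist p B)) = G c
    rw [RelFrobEt.relFrob_tmul, map_one, map_one, mul_one, hG]
  · ext b
    show relFrob p B C ((1 : C) ⊗ₜ b) = h ((toTwist p B).symm b)
    rw [RelFrobEt.relFrob_tmul, one_pow, one_mul]
    rfl

/-- The same for iterates. -/
lemma isPushout_frob (p : ℕ) [Fact p.Prime] {B C : CommRingCat.{u}} (h : B ⟶ C) (he : h.hom.Etale)
    (hB : (p : B) = 0) (n : ℕ) : ∀ (F : B ⟶ B), (∀ b, F b = b ^ p ^ n) →
    ∀ (G : C ⟶ C), (∀ c, G c = c ^ p ^ n) → IsPushout h F G h := by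
  induction n with
  | zero =>
    intro F hF G hG
    have e1 : F = 𝟙 _ := by ext b; simp [hF]
    have e2 : G = 𝟙 _ := by ext b; simp [hG]
    subst e1 e2
    exact IsPushout.of_vert_isIso ⟨by simp⟩
  | succ n ih =>
    intro F hF G hG
    have hC : (p : C) = 0 := by rw [← map_natCast h.hom, hB, map_zero]
    obtain ⟨FB, hFB⟩ := RelFrobEt.exists_powHom p B hB
    obtain ⟨FC, hFC⟩ := RelFrobEt.exists_powHom p C hC
    let F₁ : B ⟶ B := CommRingCat.ofHom FB
    let G₁ : C ⟶ C := CommRingCat.ofHom FC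
    have key : ∀ (X : CommRingCat.{u}) (f : X →+* X), (∀ x, f x = x ^ p) → ∀ (m : ℕ) (x : X),
        (f^[m]) x = x ^ p ^ m := by
      intro X f hf m
      induction m with
      | zero => simp
      | succ m ihm => intro x; rw [Function.iterate_succ_apply', hf, ihm, ← pow_mul, ← pow_succ]
    let F₂ : B ⟶ B := CommRingCat.ofHom (FB ^ n)
    let G₂ : C ⟶ C := CommRingCat.ofHom (FC ^ n)
    have hF₂ : ∀ b, F₂ b = b ^ p ^ n := fun b => by
      show (FB ^ n) b = _
      rw [RingHom.coe_pow, key B FB hFB]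
    have hG₂ : ∀ b, G₂ b = b ^ p ^ n := fun b => by
      show (FC ^ n) b = _
      rw [RingHom.coe_pow, key C FC hFC]
    have eF : F = F₁ ≫ F₂ := by
      ext b
      show F b = F₂ (F₁ b)
      rw [hF₂, hF, show F₁ b = b ^ p from hFB b, ← pow_mul, ← pow_succ']
    have eG : G = G₁ ≫ G₂ := by
      ext b
      show G b = G₂ (G₁ b)
      rw [hG₂, hG, show G₁ b = b ^ p from hFC b, ← pow_mul, ← pow_succ']
    rw [eF, eG]
    exact (isPushout_frob_one p h he F₁ hFB G₁ hFC hB).paste_vert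
      (ih F₂ hF₂ G₂ hG₂)

/-- `etale after tower` equals `tower after etale`. -/
lemma exists_swap (p : ℕ) [Fact p.Prime] {A B C : CommRingCat.{u}} {φ : A ⟶ B} (hφ : Tow p φ)
    (hA : (p : A) = 0) (h : B ⟶ C) (he : h.hom.Etale) :
    ∃ (C₀ : CommRingCat.{u}) (h₀ : A ⟶ C₀) (φ₀ : C₀ ⟶ C),
      h₀.hom.Etale ∧ Tow p φ₀ ∧ h₀ ≫ φ₀ = φ ≫ h := by
  obtain ⟨n, ψ, hψ⟩ := exists_retraction hφ hA
  have hB : (p : B) = 0 := by rw [← map_natCast φ.hom, hA, map_zero]
  let F : B ⟶ B := ψ ≫ φ
  have hC : (p : C) = 0 := by rw [← map_natCast h.hom, hB, map_zero]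
  algebraize [h.hom, ψ.hom]
  haveI : Algebra.Etale B C := RingHom.etale_algebraMap.1 (by rwa [RingHom.algebraMap_toAlgebra])
  let C₀ : CommRingCat.{u} := CommRingCat.of (A ⊗[B] C)
  let h₀ : A ⟶ C₀ := CommRingCat.ofHom Algebra.TensorProduct.includeLeftRingHom
  let c₀ : C ⟶ C₀ := CommRingCat.ofHom Algebra.TensorProduct.includeRight.toRingHom
  have P1 : IsPushout ψ h h₀ c₀ := CommRingCat.isPushout_tensorProduct B A C
  have he₀ : h₀.hom.Etale := (RingHom.etale_algebraMap (R := A) (S := A ⊗[B] C)).2 inferInstance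
  obtain ⟨G₁, hG₁⟩ := RelFrobEt.exists_powHom p C hC
  have key : ∀ (m : ℕ) (x : C), (G₁^[m]) x = x ^ p ^ m := by
    intro m
    induction m with
    | zero => simp
    | succ m ihm => intro x; rw [Function.iterate_succ_apply', hG₁, ihm, ← pow_mul, ← pow_succ]
  let G : C ⟶ C := CommRingCat.ofHom (G₁ ^ n)
  have hG : ∀ c, G c = c ^ p ^ n := fun c => by
    show (G₁ ^ n) c = _
    rw [RingHom.coe_pow, key]
  have P2 : IsPushout h F G h := isPushout_frob p h he hB n F hψ G hG
  let φ₀ : C₀ ⟶ C := P1.desc (φ ≫ h) G (by rw [← Category.assoc]; exact P2.w.symm)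
  refine ⟨C₀, h₀, φ₀, he₀, ?_, P1.inl_desc _ _ _⟩
  have P3 : IsPushout h₀ φ φ₀ h := by
    refine IsPushout.of_top ?_ (P1.inl_desc _ _ _) P1.flip
    rw [P1.inr_desc]
    exact P2
  exact tow_of_isPushout hφ h₀ φ₀ h P3

/-- Etale algebras lift locally along surjections. -/
lemma exists_etale_lift {A A₀ R : CommRingCat.{u}} (π : A ⟶ A₀) (hπ : Function.Surjective π)
    (g : A₀ ⟶ R) (hg : g.hom.Etale) (q : PrimeSpectrum R) :
    ∃ (c : R) (C : CommRingCat.{u}) (h : A ⟶ C) (π' : C ⟶ CommRingCat.of (Localization.Away c)),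
      c ∉ q.asIdeal ∧ h.hom.Etale ∧ Function.Surjective π' ∧
      IsPushout π h (g ≫ CommRingCat.ofHom (algebraMap R (Localization.Away c))) π' := by
  algebraize [g.hom, π.hom]
  haveI : Algebra.Etale A₀ R := RingHom.etale_algebraMap.1 (by rwa [RingHom.algebraMap_toAlgebra])
  obtain ⟨c, hc, hstd⟩ := Algebra.IsEtaleAt.exists_isStandardEtale (R := A₀) q.asIdeal
  obtain ⟨C, _, _, hC, ⟨e⟩⟩ := InfLift.exists_standardEtale_lift (A := A) (A₀ := A₀)
    (C₀ := Localization.Away c) hπ
  let π' : CommRingCat.of C ⟶ CommRingCat.of (Localization.Away c) :=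
    CommRingCat.ofHom (e.toRingEquiv.toRingHom.comp Algebra.TensorProduct.includeRight.toRingHom)
  refine ⟨c, CommRingCat.of C, CommRingCat.ofHom (algebraMap A C), π', hc,
    RingHom.etale_algebraMap.2 hC, ?_, ?_⟩
  · intro z
    obtain ⟨x, rfl⟩ := e.surjective z
    induction x using TensorProduct.induction_on with
    | zero => exact ⟨0, by simp⟩
    | tmul a b =>
      obtain ⟨a, rfl⟩ := hπ a
      refine ⟨algebraMap A C a * b, ?_⟩
      show e ((1 : A₀) ⊗ₜ (algebraMap A C a * b)) = e (π a ⊗ₜ b)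
      congr 1
      rw [← Algebra.smul_def, ← smul_tmul, Algebra.smul_def, mul_one]
      rfl
    | add x y hx hy =>
      obtain ⟨a, ha⟩ := hx
      obtain ⟨b, hb⟩ := hy
      exact ⟨a + b, by rw [map_add π'.hom, ha, hb, map_add]⟩
  · refine (CommRingCat.isPushout_tensorProduct A A₀ C).of_iso (Iso.refl _) (Iso.refl _) (Iso.refl _)
      e.toRingEquiv.toCommRingCatIso ?_ ?_ ?_ ?_
    · rfl
    · rfl
    · ext a
      show e (a ⊗ₜ (1 : C)) = algebraMap R (Localization.Away c) (g a)
      rw [show (a ⊗ₜ[A] (1 : C)) = algebraMap A₀ (A₀ ⊗[A] C) a from rfl, AlgEquiv.commutes]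
      rfl
    · ext b
      rfl

end Groth.Agent.QuietLib
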