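import Groth.Agent.RelFrobEt.Basic
import Groth.Prelude.Def_W4c2gaugesfzipsQuiet
import Mathlib

/-!
# Root towers as morphisms of rings
-/

set_option autoImplicit false
set_option backward.isDefEq.respectTransparency false

universe u

open CategoryTheory CategoryTheory.Limits Polynomial TensorProduct

noncomputable section

namespace Groth.Agent.QuietLib

variable (p : ℕ)

/-- `A[x]/(x^p - a)` in `CommRingCat`. -/
abbrev root (A : CommRingCat.{u}) (a : A) : CommRingCat.{u} := CommRingCat.of (Quiet.RootRing p A a)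

/-- The structure map. -/
abbrev rootι (A : CommRingCat.{u}) (a : A) : A ⟶ root p A a :=
  CommRingCat.ofHom (AdjoinRoot.of _)

/-- Root towers, inductively. -/
inductive Tow : ∀ {A B : CommRingCat.{u}}, (A ⟶ B) → Prop
  | iso {A B : CommRingCat.{u}} (φ : A ⟶ B) (h : IsIso φ) : Tow φ
  | cons {A B : CommRingCat.{u}} (a : A) (ψ : root p A a ⟶ B) (h : Tow ψ) : Tow (rootι p A a ≫ ψ)

variable {p}

lemma tow_of_isRootTower : ∀ (n : ℕ) (A B : CommRingCat.{u}) (φ : A ⟶ B),
    (letI := φ.hom.toAlgebra; Quiet.IsRootTower p n A B) → Tow p φ := by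
  intro n
  induction n with
  | zero =>
    intro A B φ h
    letI := φ.hom.toAlgebra
    obtain ⟨e⟩ := h
    refine Tow.iso φ ((ConcreteCategory.isIso_iff_bijective φ).2 ?_)
    have : ⇑φ.hom = ⇑e.symm := funext fun x => (e.symm.commutes x).symm
    show Function.Bijective φ.hom
    rw [this]
    exact e.symm.bijective
  | succ n ih =>
    intro A B φ h
    letI := φ.hom.toAlgebra
    obtain ⟨a, i, ht, hn⟩ := h
    letI := i
    haveI := ht
    let ψ : root p A a ⟶ B := CommRingCat.ofHom (algebraMap (Quiet.RootRing p A a) B)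
    have e : φ = rootι p A a ≫ ψ := by
      refine CommRingCat.hom_ext ?_
      exact (IsScalarTower.algebraMap_eq A (Quiet.RootRing p A a) B)
    rw [e]
    refine Tow.cons a ψ (ih _ _ ψ ?_)
    have e2 : ψ.hom.toAlgebra = i := Algebra.algebra_ext _ _ fun _ => rfl
    simp only
    rw [e2]
    exact hn

lemma isRootTower_of_tow {A B : CommRingCat.{u}} {φ : A ⟶ B} (h : Tow p φ) :
    letI := φ.hom.toAlgebra; ∃ n, Quiet.IsRootTower p n A B := by
  induction h with
  | @iso A B φ hφ =>
    letI := φ.hom.toAlgebra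
    exact ⟨0, ⟨(AlgEquiv.ofBijective (Algebra.ofId A B)
      ((ConcreteCategory.isIso_iff_bijective φ).1 hφ)).symm⟩⟩
  | @cons A B a ψ _ ih =>
    letI := (rootι p A a ≫ ψ).hom.toAlgebra
    obtain ⟨n, hn⟩ := ih
    refine ⟨n + 1, a, ψ.hom.toAlgebra, ?_, hn⟩
    letI := ψ.hom.toAlgebra
    exact IsScalarTower.of_algebraMap_eq fun _ => rfl

/-- Extend along the root: a map out of `root`. -/
def rootLift {A B : CommRingCat.{u}} (a : A) (f : A ⟶ B) (b : B) (hb : b ^ p = f a) :
    root p A a ⟶ B :=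
  CommRingCat.ofHom (AdjoinRoot.lift f.hom b (by simp [hb]))

@[simp] lemma rootι_rootLift {A B : CommRingCat.{u}} (a : A) (f : A ⟶ B) (b : B) (hb : b ^ p = f a) :
    rootι p A a ≫ rootLift a f b hb = f := by
  ext x
  simp [rootLift]

lemma rootLift_root {A B : CommRingCat.{u}} (a : A) (f : A ⟶ B) (b : B) (hb : b ^ p = f a) :
    (rootLift a f b hb) (AdjoinRoot.root _) = b := by
  simp [rootLift]

lemma root_pow (A : CommRingCat.{u}) (a : A) :
    (AdjoinRoot.root (X ^ p - C a : Polynomial A) : root p A a) ^ p = rootι p A a a := by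
  have h := AdjoinRoot.eval₂_root (X ^ p - C a : Polynomial A)
  rw [eval₂_sub, eval₂_pow, eval₂_X, eval₂_C, sub_eq_zero] at h
  exact h

lemma root_hom_ext {A B : CommRingCat.{u}} {a : A} {f g : root p A a ⟶ B}
    (h1 : rootι p A a ≫ f = rootι p A a ≫ g) (h2 : f (AdjoinRoot.root _) = g (AdjoinRoot.root _)) :
    f = g :=
  CommRingCat.hom_ext (AdjoinRoot.ringHom_ext (congrArg CommRingCat.Hom.hom h1) h2)

/-- The functoriality of `root`. -/
def rootMap {A A' : CommRingCat.{u}} (g : A ⟶ A') (a : A) : root p A a ⟶ root p A' (g a) :=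
  rootLift a (g ≫ rootι p A' (g a)) (AdjoinRoot.root _) (root_pow _ _)

/-- One elementary extraction base changes. -/
lemma isPushout_root {A A' : CommRingCat.{u}} (g : A ⟶ A') (a : A) :
    IsPushout g (rootι p A a) (rootι p A' (g a)) (rootMap g a) := by
  refine ⟨⟨(rootι_rootLift _ _ _ _).symm⟩, ⟨PushoutCocone.IsColimit.mk _
    (fun s => rootLift (g a) s.inl (s.inr (AdjoinRoot.root _)) ?_) (fun s => ?_) (fun s => ?_)
    (fun s m hm1 hm2 => ?_)⟩⟩
  · have e := ConcreteCategory.congr_hom s.condition a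
    simp only [CommRingCat.comp_apply] at e
    rw [← map_pow, root_pow, e]
  · exact rootι_rootLift _ _ _ _
  · refine root_hom_ext ?_ ?_
    · rw [← Category.assoc, rootMap, rootι_rootLift, Category.assoc, rootι_rootLift, s.condition]
    · rw [CommRingCat.comp_apply, rootMap, rootLift_root, rootLift_root]
  · refine root_hom_ext (by rw [rootι_rootLift]; exact hm1) ?_
    rw [rootLift_root, ← hm2, CommRingCat.comp_apply, rootMap, rootLift_root]

/-- Precomposing with an isomorphism. -/
lemma tow_iso_comp {A A' B : CommRingCat.{u}} (e : A ⟶ A') [IsIso e] {φ : A' ⟶ B} (h : Tow p φ) :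
    Tow p (e ≫ φ) := by
  induction h generalizing A with
  | @iso A' B φ hφ => exact Tow.iso _ inferInstance
  | @cons A' B a ψ hψ ih =>
    obtain ⟨a₀, rfl⟩ := ((ConcreteCategory.isIso_iff_bijective e).1 inferInstance).2 a
    have hp := isPushout_root (p := p) e a₀
    haveI : IsIso (rootMap (p := p) e a₀) := hp.isIso_inr_of_isIso
    have := Tow.cons a₀ (rootMap e a₀ ≫ ψ) (ih _)
    rwa [← Category.assoc, rootMap, rootι_rootLift, Category.assoc] at this

lemma tow_comp {A B D : CommRingCat.{u}} {φ : A ⟶ B} {ψ : B ⟶ D} (h : Tow p φ) (h' : Tow p ψ) :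
    Tow p (φ ≫ ψ) := by
  induction h with
  | iso φ hφ => exact tow_iso_comp φ h'
  | cons a χ _ ih => rw [Category.assoc]; exact Tow.cons a _ (ih h')

/-- Base change of towers. -/
lemma tow_of_isPushout {A B A' B' : CommRingCat.{u}} {φ : A ⟶ B} (h : Tow p φ) (g : A ⟶ A')
    (φ' : A' ⟶ B') (g' : B ⟶ B') (H : IsPushout g φ φ' g') : Tow p φ' := by
  induction h generalizing A' with
  | @iso A B φ hφ => exact Tow.iso _ H.isIso_inl_of_isIso
  | @cons A B a ψ hψ ih =>
    have hp := isPushout_root (p := p) g a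
    let ψ' : root p A' (g a) ⟶ B' := hp.desc φ' (ψ ≫ g') (by rw [H.w, Category.assoc])
    have e : φ' = rootι p A' (g a) ≫ ψ' := (hp.inl_desc _ _ _).symm
    rw [e]
    refine Tow.cons _ _ (ih (rootMap g a) ψ' g' ?_)
    have H' : IsPushout g (rootι p A a ≫ ψ) (rootι p A' (g a) ≫ ψ') g' := e ▸ H
    exact IsPushout.of_top H' (hp.inr_desc _ _ _) hp

/-- Lifting towers along surjections. -/
lemma exists_tow_lift {R S : CommRingCat.{u}} {φ : R ⟶ S} (h : Tow p φ) {Cr : CommRingCat.{u}}
    (π : Cr ⟶ R) (hπ : Function.Surjective π) :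
    ∃ (S' : CommRingCat.{u}) (φ' : Cr ⟶ S') (π' : S' ⟶ S),
      Tow p φ' ∧ Function.Surjective π' ∧ IsPushout π φ' φ π' := by
  induction h generalizing Cr with
  | @iso R S φ hφ =>
    refine ⟨Cr, 𝟙 _, π ≫ φ, Tow.iso _ inferInstance, ?_, ?_⟩
    · exact ((ConcreteCategory.isIso_iff_bijective φ).1 hφ).2.comp hπ
    · exact IsPushout.of_vert_isIso ⟨by simp⟩
  | @cons R S a ψ hψ ih =>
    obtain ⟨a', rfl⟩ := hπ a
    have hp := isPushout_root (p := p) π a'
    have hs : Function.Surjective (rootMap (p := p) π a') := by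
      intro z
      induction z using AdjoinRoot.induction_on with
      | ih q =>
        obtain ⟨q', rfl⟩ := Polynomial.map_surjective π.hom hπ q
        refine ⟨AdjoinRoot.mk _ q', ?_⟩
        exact RingHom.congr_fun (Polynomial.ringHom_ext
          (f := (rootMap (p := p) π a').hom.comp (AdjoinRoot.mk _))
          (g := (AdjoinRoot.mk _).comp (Polynomial.mapRingHom π.hom))
          (fun x => by simp [rootMap, rootLift]) (by simp [rootMap, rootLift])) q'
    obtain ⟨S', φ', π', h1, h2, h3⟩ := ih (rootMap π a') hs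
    exact ⟨S', rootι p Cr a' ≫ φ', π', Tow.cons _ _ h1, h2, hp.paste_vert h3⟩

/-- A power of Frobenius factors through the base. -/
lemma exists_retraction [Fact p.Prime] {A B : CommRingCat.{u}} {φ : A ⟶ B} (h : Tow p φ)
    (hA : (p : A) = 0) : ∃ (n : ℕ) (ψ : B ⟶ A), ∀ b, φ (ψ b) = b ^ p ^ n := by
  induction h with
  | @iso A B φ hφ =>
    refine ⟨0, inv φ, fun b => ?_⟩
    rw [← CommRingCat.comp_apply, IsIso.inv_hom_id, pow_zero, pow_one]
    rfl
  | @cons A B a χ _ ih =>
    have hR : (p : root p A a) = 0 := by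
      rw [← map_natCast (rootι p A a).hom, hA, map_zero]
    obtain ⟨n, ψ, hψ⟩ := ih hR
    obtain ⟨FA, hFA⟩ := RelFrobEt.exists_powHom p A hA
    obtain ⟨FR, hFR⟩ := RelFrobEt.exists_powHom p (root p A a) hR
    let s : root p A a ⟶ A := rootLift a (CommRingCat.ofHom FA) a (hFA a).symm
    have hs : ∀ r, rootι p A a (s r) = r ^ p := by
      intro r
      rw [← hFR]
      refine ConcreteCategory.congr_hom (root_hom_ext (f := s ≫ rootι p A a)
        (g := CommRingCat.ofHom FR) ?_ ?_) r
      · rw [← Category.assoc, rootι_rootLift]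
        ext x
        show rootι p A a (FA x) = FR (rootι p A a x)
        rw [hFA, hFR, map_pow]
      · rw [CommRingCat.comp_apply, rootLift_root]
        show _ = FR _
        rw [hFR, root_pow]
    refine ⟨n + 1, ψ ≫ s, fun b => ?_⟩
    rw [CommRingCat.comp_apply, CommRingCat.comp_apply, hs, map_pow, hψ, ← pow_mul, ← pow_succ]

end Groth.Agent.QuietLib
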